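import Cfsg.Agent.Lib.SzMaxOrd.Orders
import Cfsg.Agent.Lib.ThreePrime.ConsumersBasic
import Cfsg.Agent.Lib.Suzuki.Minor

/-!
`Sz(q)` is determined by the orders of its maximal subgroups (S3728), from the classification of the simple
groups of order prime to three.
-/

set_option autoImplicit false
set_option linter.style.haveILetI false
set_option linter.unusedSectionVars false

namespace Cfsg.Agent.SzMaxOrd

open Subgroup
open Cfsg.Agent.Suzuki (SzField)

universe u

variable {G : Type u} [Group G] [Finite G]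

theorem exists_normal_max [Nontrivial G] :
    ∃ N : Subgroup G, N.Normal ∧ N ≠ ⊤ ∧ ∀ K : Subgroup G, K.Normal → N ≤ K → K = N ∨ K = ⊤ := by
  obtain ⟨N, hN⟩ := (Set.toFinite {N : Subgroup G | N.Normal ∧ N ≠ ⊤}).exists_maximal
    ⟨⊥, inferInstance, bot_ne_top⟩
  refine ⟨N, hN.1.1, hN.1.2, fun K hK hle => or_iff_not_imp_right.2 fun h => ?_⟩
  exact le_antisymm (hN.2 ⟨hK, h⟩ hle) hle

theorem isSimple_quot (N : Subgroup G) [N.Normal] (hN : N ≠ ⊤)
    (h : ∀ K : Subgroup G, K.Normal → N ≤ K → K = N ∨ K = ⊤) : IsSimpleGroup (G ⧸ N) := by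
  haveI : Nontrivial (G ⧸ N) := QuotientGroup.nontrivial_iff.2 hN
  have hs := QuotientGroup.mk'_surjective N
  refine ⟨fun K hK => ?_⟩
  have h1 : N ≤ K.comap (QuotientGroup.mk' N) := fun x hx => by
    rw [mem_comap, show QuotientGroup.mk' N x = 1 from (QuotientGroup.eq_one_iff x).2 hx]
    exact one_mem K
  rw [← map_comap_eq_self_of_surjective hs K]
  rcases h _ (hK.comap _) h1 with e | e <;> rw [e]
  · left
    exact (Subgroup.map_eq_bot_iff _).2 (QuotientGroup.ker_mk' N).ge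
  · exact Or.inr (map_top_of_surjective _ hs)

/-- What the orders of the maximal subgroups say about the group. -/
structure Data (G : Type u) [Group G] (m : ℕ) : Prop where
  le : ∀ M : Subgroup G, IsCoatom M → Nat.card M ≤ bo m
  dvd : ∀ M : Subgroup G, IsCoatom M → Nat.card M ∣ sz m
  B0 : ∃ M : Subgroup G, IsCoatom M ∧ Nat.card M = bo m
  A : ∃ M : Subgroup G, IsCoatom M ∧ Nat.card M = 4 * tA m
  B : ∃ M : Subgroup G, IsCoatom M ∧ Nat.card M = 4 * tB m

variable {m : ℕ} (hm : 1 ≤ m) (D : Data G m)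
include hm D

theorem sz_dvd : sz m ∣ Nat.card G := by
  have P := facts hm
  obtain ⟨M0, -, e0⟩ := D.B0
  obtain ⟨MA, -, eA⟩ := D.A
  obtain ⟨MB, -, eB⟩ := D.B
  rw [sz_eq hm]
  exact (P.cA.symm.mul_right P.cB.symm).mul_dvd_of_dvd_of_dvd (e0 ▸ card_subgroup_dvd_card M0)
    (P.cAB.mul_dvd_of_dvd_of_dvd ((dvd_mul_left _ _).trans (eA ▸ card_subgroup_dvd_card MA))
      ((dvd_mul_left _ _).trans (eB ▸ card_subgroup_dvd_card MB)))

theorem prime_dvd {p : ℕ} (hp : p.Prime) (hd : p ∣ Nat.card G) : p ∣ sz m := by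
  haveI := Fact.mk hp
  obtain ⟨P⟩ : Nonempty (Sylow p G) := inferInstance
  rcases eq_top_or_exists_le_coatom (P : Subgroup G) with e | ⟨M, hM, hle⟩
  · obtain ⟨j, hj⟩ := IsPGroup.iff_card.1 P.2
    rw [e, card_top] at hj
    by_contra hno
    have h1 : sz m ∣ p ^ j := hj ▸ sz_dvd hm D
    have h2 : (sz m).Coprime (p ^ j) := ((hp.coprime_iff_not_dvd.2 hno).symm).pow_right j
    have h3 := h2.eq_one_of_dvd h1
    have F := facts hm
    have h4 : 16 ≤ bo m := le_trans (by linarith [F.ltA]) F.leBo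
    rw [sz] at h3
    nlinarith
  · exact (P.dvd_card_of_dvd_card hd).trans ((card_dvd_of_le hle).trans (D.dvd M hM))

/-- S3728 in terms of the data. -/
theorem main (hSz : ThreePrime.SimpleSz.{u}) {F : Type*} [Field F] [Fintype F] (h : SzField F m) :
    Nonempty (G ≃* Cfsg.Sz F m) := by
  classical
  have P := facts hm
  obtain ⟨M0, hM0, e0⟩ := D.B0
  obtain ⟨MA, hMA, eA⟩ := D.A
  obtain ⟨MB, hMB, eB⟩ := D.B
  haveI : Nontrivial G := ⟨by
    by_contra hall
    push Not at hall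
    exact hMA.1 (eq_top_iff.2 fun x _ => by rw [hall x 1]; exact one_mem _)⟩
  obtain ⟨N, hNn, hN, hmax⟩ := exists_normal_max (G := G)
  haveI := hNn
  haveI := isSimple_quot N hN hmax
  have hGN : Nat.card G = Nat.card (G ⧸ N) * Nat.card N := card_eq_card_quotient_mul_card_subgroup N
  have hszG := sz_dvd hm D
  have hbo : 0 < bo m := lt_of_lt_of_le (by linarith [P.ltA]) P.leBo
  -- no quotient of prime order
  have hna : ∃ a b : G ⧸ N, a * b ≠ b * a := by
    by_contra hall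
    push Not at hall
    letI : CommGroup (G ⧸ N) := { (inferInstance : Group (G ⧸ N)) with mul_comm := hall }
    set r := Nat.card (G ⧸ N) with hrdef
    have hr : r.Prime := IsSimpleGroup.prime_card
    have hco : IsCoatom N := ⟨hN, fun K hK => by
      have h1 := (relIndex_mul_index hK.le)
      rw [index_eq_card N, ← hrdef] at h1
      rcases hr.eq_one_or_self_of_dvd K.index ⟨_, by rw [mul_comm]; exact h1.symm⟩ with e | e
      · exact index_eq_one.1 e
      · rw [e] at h1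
        have : N.relIndex K = 1 := Nat.eq_of_mul_eq_mul_right hr.pos (by rw [h1, one_mul])
        exact absurd (relIndex_eq_one.1 this) hK.not_ge⟩
    have h1 : sz m ≤ r * bo m :=
      (Nat.le_of_dvd Nat.card_pos hszG).trans (by rw [hGN]; exact Nat.mul_le_mul_left _ (D.le N hco))
    have h2 : r ∣ sz m := prime_dvd hm D hr (hGN ▸ dvd_mul_right _ _)
    obtain ⟨R, Q, hQ, hR, hRR, h2Q, h8, -, -⟩ := rel hm
    have hA : tA m = Q + R + 1 := by rw [tA, hQ, hR]
    have hB : tB m = Q - R + 1 := by rw [tB, hQ, hR]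
    have hle : r ≤ Q + R + 1 := by
      rw [sz_eq hm, bo, ← hQ, hA, hB] at h2
      rcases hr.dvd_mul.1 h2 with e | e <;> rcases hr.dvd_mul.1 e with e' | e'
      · exact (Nat.le_of_dvd (by omega) (hr.dvd_of_dvd_pow e')).trans (by omega)
      · exact (Nat.le_of_dvd (by omega) e').trans (by omega)
      · exact Nat.le_of_dvd (by omega) e'
      · exact (Nat.le_of_dvd (by omega) e').trans (by omega)
    rw [sz, ← hQ] at h1
    have h3 : Q ^ 2 + 1 ≤ r := Nat.le_of_mul_le_mul_left (by linarith) hbo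
    nlinarith
  have h3 : ¬ 3 ∣ Nat.card (G ⧸ N) := fun hd => by
    have := prime_dvd hm D Nat.prime_three (hd.trans (hGN ▸ dvd_mul_right _ _))
    rw [← card_eq_sz h] at this
    exact Suzuki.three_not_dvd h this
  obtain ⟨K, _, _, k, hk, hK, ⟨e⟩⟩ := hSz (G ⧸ N) hna h3
  have hS : SzField K k := ⟨hk, hK⟩
  let f : G ⧸ N ≃* Cfsg.Sz K k := e.trans (Suzuki.minorEquiv hS).symm
  have hcard : Nat.card (G ⧸ N) = sz k := (Nat.card_congr f.toEquiv).trans (card_eq_sz hS)
  have hk2 : (2 ^ (2 * k + 1)) ^ 2 ∣ sz k := ((dvd_mul_right _ _).trans (dvd_mul_right _ _) :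
    (2 ^ (2 * k + 1)) ^ 2 ∣ bo k * _)
  -- `N` lies in the small maximal subgroups
  have hNle : ∀ (M : Subgroup G) (T : ℕ), IsCoatom M → Nat.card M = 4 * T → Odd T → N ≤ M := by
    intro M T hM hc hT
    by_contra hno
    have htop : M ⊔ N = ⊤ := hM.2 _ (lt_of_le_of_ne le_sup_left fun e => hno (e ▸ le_sup_right))
    have h1 : M.map (QuotientGroup.mk' N) = ⊤ := by
      rw [← map_top_of_surjective _ (QuotientGroup.mk'_surjective N), ← htop, Subgroup.map_sup,
        (Subgroup.map_eq_bot_iff N).2 (QuotientGroup.ker_mk' N).ge, sup_bot_eq]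
    have h2 := card_map_dvd (f := QuotientGroup.mk' N) M
    rw [h1, card_top, hcard, hc] at h2
    have h8 : 8 ∣ (2 ^ (2 * k + 1)) ^ 2 := by
      rw [← pow_mul, show (8 : ℕ) = 2 ^ 3 by norm_num]
      exact Nat.pow_dvd_pow 2 (by omega)
    have h4 : 8 ∣ 4 * T := (h8.trans hk2).trans h2
    have h5 : 2 ∣ T := Nat.dvd_of_mul_dvd_mul_left (by norm_num : 0 < 4) h4
    exact Nat.not_even_iff_odd.2 hT (even_iff_two_dvd.2 h5)
  have hN4 : Nat.card N ∣ 4 := by
    have h1 := Nat.dvd_gcd (eA ▸ card_dvd_of_le (hNle MA _ hMA eA P.oddA))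
      (eB ▸ card_dvd_of_le (hNle MB _ hMB eB P.oddB))
    rwa [Nat.gcd_mul_left, P.cAB, mul_one] at h1
  have hmk : m ≤ k := by
    have h1 : (2 ^ (2 * m + 1)) ^ 2 ∣ sz k * 4 :=
      (((dvd_mul_right _ _).trans (dvd_mul_right _ _) : (2 ^ (2 * m + 1)) ^ 2 ∣ sz m).trans hszG).trans
        (by rw [hGN, hcard]; exact mul_dvd_mul_left _ hN4)
    rw [sz, bo, show (2 ^ (2 * k + 1)) ^ 2 * (2 ^ (2 * k + 1) - 1) * ((2 ^ (2 * k + 1)) ^ 2 + 1) * 4 =
      ((2 ^ (2 * k + 1) - 1) * ((2 ^ (2 * k + 1)) ^ 2 + 1)) * (2 ^ (2 * k + 2)) ^ 2 by ring] at h1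
    have hodd : Odd ((2 ^ (2 * k + 1) - 1) * ((2 ^ (2 * k + 1)) ^ 2 + 1)) := by
      refine Odd.mul ?_ ?_
      · exact Nat.Even.sub_odd Nat.one_le_two_pow (Nat.even_pow.2 ⟨even_two, by omega⟩) odd_one
      · exact (Nat.even_pow.2 ⟨Nat.even_pow.2 ⟨even_two, by omega⟩, by omega⟩).add_one
    have h4 := (Nat.Coprime.pow_left 2 ((Nat.coprime_two_left.2 hodd).pow_left _)).dvd_of_dvd_mul_left h1
    rw [← pow_mul, ← pow_mul, Nat.pow_dvd_pow_iff_le_right (by norm_num)] at h4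
    omega
  obtain ⟨⟨B, hB, hBc⟩, -, -⟩ := exists_coatoms hS
  set φ : G →* Cfsg.Sz K k := f.toMonoidHom.comp (QuotientGroup.mk' N) with hφ
  have hφs : Function.Surjective φ := f.surjective.comp (QuotientGroup.mk'_surjective N)
  have hφk : Nat.card φ.ker = Nat.card N := by
    rw [show φ.ker = N from by
      ext x
      rw [MonoidHom.mem_ker, hφ, MonoidHom.comp_apply, MulEquiv.coe_toMonoidHom,
        EmbeddingLike.map_eq_one_iff, QuotientGroup.mk'_apply, QuotientGroup.eq_one_iff]]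
  have hB' : IsCoatom (B.comap φ) := ⟨fun e => hB.1 (comap_injective hφs (by rw [e, comap_top])),
    fun M hM => by
      have hker : φ.ker ≤ M := le_trans (fun x hx => by
        rw [mem_comap, show φ x = 1 from hx]; exact one_mem B) hM.le
      have h1 : B < M.map φ := by
        refine lt_of_le_of_ne ?_ fun e => hM.ne (by rw [e, comap_map_eq_self hker])
        rw [← map_comap_eq_self_of_surjective hφs B]
        exact map_mono hM.le
      rw [← comap_map_eq_self hker, hB.2 _ h1, comap_top]⟩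
  have hcB : Nat.card (B.comap φ) = bo k * Nat.card N := by
    have h1 := (B.comap φ).card_mul_index
    rw [index_comap_of_surjective _ hφs, hGN, hcard, ← card_eq_sz hS, ← B.card_mul_index, hBc] at h1
    exact Nat.eq_of_mul_eq_mul_right (Nat.pos_of_ne_zero index_ne_zero_of_finite)
      (h1.trans (by ring))
  have hle := D.le _ hB'
  rw [hcB] at hle
  have hkm : k = m := by
    refine le_antisymm ?_ hmk
    by_contra hlt
    have hp : 2 ^ (2 * m + 1) < 2 ^ (2 * k + 1) := Nat.pow_lt_pow_right (by norm_num) (by omega)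
    have h1 : bo m < bo k := by
      rw [bo, bo]
      exact Nat.mul_lt_mul_of_le_of_lt (Nat.pow_le_pow_left hp.le 2)
        (Nat.sub_lt_sub_right Nat.one_le_two_pow hp) (by positivity)
    have := Nat.le_mul_of_pos_right (bo k) (Nat.card_pos (α := N))
    omega
  subst hkm
  have hN1 : Nat.card N = 1 := by
    have := Nat.card_pos (α := N)
    nlinarith
  have hinj : Function.Injective φ := (MonoidHom.ker_eq_bot_iff φ).1 (eq_bot_of_card_eq _ (hφk.trans hN1))
  obtain ⟨σ⟩ := Suzuki.exists_ringHom h hS dvd_rfl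
  have hE : Function.Bijective (Suzuki.emb h hS dvd_rfl σ) :=
    (Suzuki.emb_injective h hS dvd_rfl σ).bijective_of_nat_card_le
      (by rw [card_eq_sz h, card_eq_sz hS])
  exact ⟨(MulEquiv.ofBijective φ ⟨hinj, hφs⟩).trans (MulEquiv.ofBijective _ hE)⟩

omit hm D in
/-- S3728 from the classification of the simple groups of order prime to three. -/
theorem S3728_of (hSz : ThreePrime.SimpleSz.{u}) {F : Type*} [Field F] [Fintype F] (m : ℕ) (hm : 1 ≤ m)
    (hF : Fintype.card F = 2 ^ (2 * m + 1))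
    (hset : {k : ℕ | ∃ M : Subgroup G, IsCoatom M ∧ k = Nat.card ↥M} =
      {k : ℕ | ∃ M : Subgroup ↥(Cfsg.Lie.Sz F (2 ^ (m + 1))), IsCoatom M ∧ k = Nat.card ↥M}) :
    Nonempty (G ≃* ↥(Cfsg.Lie.Sz F (2 ^ (m + 1)))) := by
  have h : SzField F m := ⟨hm, hF⟩
  set ψ := Suzuki.minorEquiv h with hψ
  have hiff : ∀ n : ℕ, (∃ M : Subgroup G, IsCoatom M ∧ n = Nat.card M) ↔
      ∃ M : Subgroup (Cfsg.Sz F m), IsCoatom M ∧ n = Nat.card M := by
    intro n
    refine (Set.ext_iff.1 hset n).trans ⟨?_, ?_⟩ <;> rintro ⟨M, hM, rfl⟩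
    · exact ⟨ψ.symm.mapSubgroup M, (ψ.symm.mapSubgroup.isCoatom_iff M).2 hM,
        (card_map_of_injective ψ.symm.injective).symm⟩
    · exact ⟨ψ.mapSubgroup M, (ψ.mapSubgroup.isCoatom_iff M).2 hM,
        (card_map_of_injective ψ.injective).symm⟩
  have D : Data G m := by
    obtain ⟨⟨M0, h0, e0⟩, ⟨MA, hA, eA⟩, ⟨MB, hB, eB⟩⟩ := exists_coatoms h
    refine ⟨fun M hM => ?_, fun M hM => ?_, ?_, ?_, ?_⟩
    · obtain ⟨M', hM', e⟩ := (hiff _).1 ⟨M, hM, rfl⟩
      exact e ▸ le_bo h M' hM'.1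
    · obtain ⟨M', hM', e⟩ := (hiff _).1 ⟨M, hM, rfl⟩
      exact e ▸ card_eq_sz h ▸ card_subgroup_dvd_card M'
    · obtain ⟨M, hM, e⟩ := (hiff _).2 ⟨M0, h0, rfl⟩
      exact ⟨M, hM, e.symm.trans e0⟩
    · obtain ⟨M, hM, e⟩ := (hiff _).2 ⟨MA, hA, rfl⟩
      exact ⟨M, hM, e.symm.trans eA⟩
    · obtain ⟨M, hM, e⟩ := (hiff _).2 ⟨MB, hB, rfl⟩
      exact ⟨M, hM, e.symm.trans eB⟩
  obtain ⟨g⟩ := main hm D hSz h
  exact ⟨g.trans ψ⟩

end Cfsg.Agent.SzMaxOrd
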