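import Cfsg.Agent.Lib.Suzuki.SubgroupMax
import Cfsg.Agent.Lib.Suzuki.Subfield

/-!
The orders of the maximal subgroups of `Sz(q)`, as far as they are needed to recognise it from them.
-/

set_option autoImplicit false
set_option linter.style.haveILetI false
set_option linter.unusedSectionVars false

namespace Cfsg.Agent.SzMaxOrd

open Cfsg.Agent.Suzuki

/-- The order of a Borel subgroup. -/
def bo (m : ℕ) : ℕ := (2 ^ (2 * m + 1)) ^ 2 * (2 ^ (2 * m + 1) - 1)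

/-- The order of the larger odd torus. -/
def tA (m : ℕ) : ℕ := 2 ^ (2 * m + 1) + 2 ^ (m + 1) + 1

/-- The order of the smaller odd torus. -/
def tB (m : ℕ) : ℕ := 2 ^ (2 * m + 1) - 2 ^ (m + 1) + 1

/-- The order of the group. -/
def sz (m : ℕ) : ℕ := bo m * ((2 ^ (2 * m + 1)) ^ 2 + 1)

theorem rel {m : ℕ} (hm : 1 ≤ m) : ∃ R Q : ℕ, Q = 2 ^ (2 * m + 1) ∧ R = 2 ^ (m + 1) ∧ R * R = 2 * Q ∧
    2 * R ≤ Q ∧ 8 ≤ Q ∧ 2 ∣ R ∧ 2 ∣ Q := by
  refine ⟨_, _, rfl, rfl, ?_, ?_, ?_, dvd_pow_self 2 (by omega), dvd_pow_self 2 (by omega)⟩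
  · rw [← pow_add, ← pow_succ']; congr 1; omega
  · rw [← pow_succ']; exact Nat.pow_le_pow_right (by norm_num) (by omega)
  · calc (8 : ℕ) = 2 ^ 3 := by norm_num
      _ ≤ _ := Nat.pow_le_pow_right (by norm_num) (by omega)

theorem tA_mul_tB {m : ℕ} (hm : 1 ≤ m) : tA m * tB m = (2 ^ (2 * m + 1)) ^ 2 + 1 := by
  obtain ⟨R, Q, hQ, hR, hRR, h2, h8, -, -⟩ := rel hm
  rw [tA, tB, ← hQ, ← hR]
  obtain ⟨D, rfl⟩ : ∃ D, Q = D + R := ⟨Q - R, by omega⟩
  rw [Nat.add_sub_cancel]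
  nlinarith

theorem sz_eq {m : ℕ} (hm : 1 ≤ m) : sz m = bo m * (tA m * tB m) := by rw [sz, tA_mul_tB hm]

/-- The arithmetic facts. -/
structure Facts (m : ℕ) : Prop where
  oddA : Odd (tA m)
  oddB : Odd (tB m)
  ltA : 4 < tA m
  ltB : 4 < tB m
  leB : tB m ≤ tA m
  bigA : tA m < (2 ^ (2 * m + 1)) ^ 2
  cAB : (tA m).Coprime (tB m)
  cA : (tA m).Coprime (bo m)
  cB : (tB m).Coprime (bo m)
  leBo : 4 * tA m ≤ bo m

theorem facts {m : ℕ} (hm : 1 ≤ m) : Facts m := by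
  obtain ⟨R, Q, hQ, hR, hRR, h2, h8, ⟨r, hr⟩, ⟨s, hs⟩⟩ := rel hm
  have hA : tA m = Q + R + 1 := by rw [tA, hQ, hR]
  have hB : tB m = Q - R + 1 := by rw [tB, hQ, hR]
  have hbo : bo m = Q ^ 2 * (Q - 1) := by rw [bo, hQ]
  have hR4 : 4 ≤ R := by
    rw [hR]
    calc (4 : ℕ) = 2 ^ 2 := by norm_num
      _ ≤ _ := Nat.pow_le_pow_right (by norm_num) (by omega)
  have hAB : tA m * tB m = Q ^ 2 + 1 := by rw [hQ]; exact tA_mul_tB hm
  have hoA : Odd (tA m) := ⟨s + r, by omega⟩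
  have hoB : Odd (tB m) := ⟨s - r, by omega⟩
  have hcop : ∀ p : ℕ, p.Prime → p ∣ Q ^ 2 + 1 → p ≠ 2 → ¬ p ∣ bo m := by
    intro p hp hd hp2 hb
    rw [hbo] at hb
    rcases hp.dvd_mul.1 hb with h | h
    · exact hp.one_lt.ne' (Nat.dvd_one.1 ((Nat.dvd_add_right h).1 hd))
    · have h4 : p ∣ 2 := by
        obtain ⟨c, hc⟩ : ∃ c, Q = c + 1 := ⟨Q - 1, by omega⟩
        rw [hc, Nat.add_sub_cancel] at h
        have e : Q ^ 2 + 1 = c * (c + 2) + 2 := by rw [hc]; ring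
        rw [e] at hd
        exact (Nat.dvd_add_right (h.mul_right _)).1 hd
      exact hp2 ((Nat.prime_dvd_prime_iff_eq hp Nat.prime_two).1 h4)
  have hne2 : ∀ {n p : ℕ}, Odd n → p ∣ n → p ≠ 2 := fun hn hd h => by
    subst h; exact (Nat.not_even_iff_odd.2 hn) (even_iff_two_dvd.2 hd)
  refine ⟨hoA, hoB, by omega, by omega, by omega, ?_, ?_, ?_, ?_, ?_⟩
  · rw [hA, ← hQ]; nlinarith
  · refine Nat.coprime_of_dvd fun p hp hpA hpB => hne2 hoA hpA ?_
    have hpR : p ∣ 2 * R := by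
      have : tA m = tB m + 2 * R := by omega
      rw [this] at hpA
      exact (Nat.dvd_add_right hpB).1 hpA
    rcases hp.dvd_mul.1 hpR with h | h
    · exact (Nat.prime_dvd_prime_iff_eq hp Nat.prime_two).1 h
    · rw [hR] at h
      exact (Nat.prime_dvd_prime_iff_eq hp Nat.prime_two).1 (hp.dvd_of_dvd_pow h)
  · exact Nat.coprime_of_dvd fun p hp hpA => hcop p hp (hAB ▸ hpA.mul_right _) (hne2 hoA hpA)
  · exact Nat.coprime_of_dvd fun p hp hpB => hcop p hp (hAB ▸ hpB.mul_left _) (hne2 hoB hpB)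
  · rw [hA, hbo]
    have h7 : 7 ≤ Q - 1 := by omega
    nlinarith

/-- Smaller Suzuki orders: too small, and prime to both odd tori of the larger group. -/
theorem sub_facts {k m : ℕ} (hk : 1 ≤ k) (hkm : k < m) (hd : 2 * k + 1 ∣ 2 * m + 1) :
    sz k ≤ bo m ∧ ¬ tA m ∣ sz k ∧ ¬ tB m ∣ sz k := by
  have hm : 1 ≤ m := by omega
  have F := facts hm
  obtain ⟨R, Q, hQ, hR, -, h2, h8, -, -⟩ := rel hm
  obtain ⟨-, Q₀, hQ₀, -, -, -, h80, -, -⟩ := rel hk
  have h3 : Q₀ ^ 3 ≤ Q := by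
    rw [hQ, hQ₀, ← pow_mul]
    refine Nat.pow_le_pow_right (by norm_num) ?_
    obtain ⟨c, hc⟩ := hd
    rcases Nat.lt_or_ge c 3 with h | h
    · interval_cases c <;> omega
    · nlinarith
  have hdvd : Q₀ - 1 ∣ Q - 1 := by rw [hQ, hQ₀]; exact Nat.pow_sub_one_dvd_pow_sub_one 2 hd
  have hsz : sz k = Q₀ ^ 2 * (Q₀ - 1) * (Q₀ ^ 2 + 1) := by rw [sz, bo, hQ₀]
  have hsmall : Q₀ ^ 2 + 1 < tB m := by
    have : 8 * Q₀ ^ 2 ≤ Q := le_trans (by nlinarith) h3
    rw [tB, ← hQ, ← hR]; omega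
  have hb : ∀ T, T.Coprime (bo m) → tB m ≤ T → ¬ T ∣ sz k := by
    intro T hT hle hTd
    rw [hsz] at hTd
    have h1 : (Q₀ ^ 2 * (Q₀ - 1)) ∣ bo m := by
      rw [bo, ← hQ]
      refine mul_dvd_mul (pow_dvd_pow_of_dvd ?_ 2) hdvd
      rw [hQ, hQ₀]
      exact Nat.pow_dvd_pow 2 (by omega)
    have h4 := (hT.coprime_dvd_right h1).dvd_of_dvd_mul_left hTd
    have := Nat.le_of_dvd (by positivity) h4
    omega
  refine ⟨?_, hb _ F.cA F.leB, hb _ F.cB le_rfl⟩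
  have h1 : Q₀ ^ 2 + 1 ≤ Q := le_trans (by nlinarith) h3
  have h4 : Q₀ ^ 2 * (Q₀ - 1) ≤ Q * (Q - 1) :=
    Nat.mul_le_mul (by omega) (Nat.sub_le_sub_right (le_trans (by nlinarith) h3) 1)
  calc sz k ≤ Q * (Q - 1) * Q := by rw [hsz]; exact Nat.mul_le_mul h4 h1
    _ = bo m := by rw [bo, ← hQ]; ring

variable {F : Type*} [Field F] [Fintype F] {m : ℕ} (h : SzField F m)
include h

theorem card_eq_sz : Nat.card (Cfsg.Sz F m) = sz m := by
  rw [card_Sz h, sz, bo]; ring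

/-- The orders of proper subgroups. -/
theorem dvd_cases (M : Subgroup (Cfsg.Sz F m)) (hM : M ≠ ⊤) :
    Nat.card M ∣ bo m ∨ Nat.card M ∣ 4 * tA m ∨ Nat.card M ∣ 4 * tB m ∨
      ∃ k, 1 ≤ k ∧ k < m ∧ 2 * k + 1 ∣ 2 * m + 1 ∧ Nat.card M ∣ sz k := by
  by_cases hns : Group.IsSolvable M
  swap
  · obtain ⟨K, i1, i2, k, hk, hkm, hK, hd, S, ⟨e⟩, hle⟩ := exists_subfield_subgroup h M hM hns
    refine Or.inr (Or.inr (Or.inr ⟨k, hk, hkm, hd, ?_⟩))
    rw [← card_eq_sz (h := (⟨hk, hK⟩ : SzField K k)), ← Nat.card_congr e.toEquiv]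
    exact Subgroup.card_dvd_of_le hle
  by_cases hbot : M = ⊥
  · exact Or.inl (by rw [hbot, Subgroup.card_bot]; exact one_dvd _)
  rcases solvable_le h hns hbot with ⟨p, hp, hfix⟩ | ⟨C, e, -, hkind, hle⟩
  · left
    have h1 := Subgroup.card_dvd_of_le (show M ≤ MulAction.stabilizer (Cfsg.Sz F m) p from hfix)
    rwa [card_stabilizer h hp, card_borel h] at h1
  · have hMC := Subgroup.card_dvd_of_le hle
    rcases hkind with ⟨u, rfl⟩ | hmem
    · left
      refine hMC.trans ?_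
      have e1 : Subgroup.normalizer (conjSub u (torus h) : Set (Cfsg.Sz F m)) =
          (Subgroup.normalizer (torus h : Set (Cfsg.Sz F m))).map (MulAut.conj u).toMonoidHom :=
        normalizer_conjSub u _
      rw [e1, Subgroup.card_map_of_injective (MulAut.conj u).injective, card_normalizer_torus h, card_torus h, bo]
      exact mul_dvd_mul_right ((dvd_pow_self 2 (by omega)).trans (dvd_pow_self _ (by norm_num))) _
    · obtain ⟨e', he', hN⟩ := card_normalizer_member h hmem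
      have h4 : e' * Nat.card C ∣ 4 * Nat.card C := by
        refine mul_dvd_mul_right ?_ _
        rcases he' with rfl | rfl | rfl <;> norm_num
      rw [hN] at hMC
      obtain ⟨A, B, -, -, hA, hB, -, -, hall⟩ := exists_tori h
      rcases hall C hmem with e1 | e1
      · exact Or.inr (Or.inl (hMC.trans (by rwa [ConjTo.card_eq h e1, hA] at h4 ⊢)))
      · exact Or.inr (Or.inr (Or.inl (hMC.trans (by rwa [ConjTo.card_eq h e1, hB] at h4 ⊢))))

theorem le_bo (M : Subgroup (Cfsg.Sz F m)) (hM : M ≠ ⊤) : Nat.card M ≤ bo m := by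
  have A := facts h.one_le
  have hpos : 0 < bo m := lt_of_lt_of_le (by linarith [A.ltA]) A.leBo
  rcases dvd_cases h M hM with h1 | h1 | h1 | ⟨k, hk, hkm, hd, h1⟩
  · exact Nat.le_of_dvd hpos h1
  · exact (Nat.le_of_dvd (by linarith [A.ltA]) h1).trans A.leBo
  · exact (Nat.le_of_dvd (by linarith [A.ltB]) h1).trans (le_trans (Nat.mul_le_mul_left 4 A.leB) A.leBo)
  · refine (Nat.le_of_dvd ?_ h1).trans (sub_facts hk hkm hd).1
    have B := facts hk
    rw [sz]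
    exact Nat.mul_pos (lt_of_lt_of_le (by linarith [B.ltA]) B.leBo) (Nat.succ_pos _)

theorem ne_top_of_card {M : Subgroup (Cfsg.Sz F m)} (hM : Nat.card M < sz m) : M ≠ ⊤ := fun e => by
  rw [e, Subgroup.card_top, card_eq_sz h] at hM
  exact lt_irrefl _ hM

/-- The orders `q²(q - 1)` and `4(q ± 2^(m+1) + 1)` occur. -/
theorem exists_coatoms :
    (∃ M : Subgroup (Cfsg.Sz F m), IsCoatom M ∧ Nat.card M = bo m) ∧
    (∃ M : Subgroup (Cfsg.Sz F m), IsCoatom M ∧ Nat.card M = 4 * tA m) ∧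
    (∃ M : Subgroup (Cfsg.Sz F m), IsCoatom M ∧ Nat.card M = 4 * tB m) := by
  have P := facts h.one_le
  have hbig : bo m < sz m := by
    rw [sz]
    exact lt_mul_of_one_lt_right (lt_of_lt_of_le (by linarith [P.ltA]) P.leBo)
      (Nat.lt_add_of_pos_left (pow_pos (pow_pos (by norm_num) _) 2))
  refine ⟨?_, ?_, ?_⟩
  · have hne : borel F m ≠ ⊤ := ne_top_of_card h (by rw [card_borel h]; exact hbig)
    obtain ⟨M, hM, hle⟩ := (eq_top_or_exists_le_coatom (borel F m)).resolve_left hne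
    refine ⟨M, hM, le_antisymm (le_bo h M hM.1) ?_⟩
    have h1 := Nat.le_of_dvd Nat.card_pos (Subgroup.card_dvd_of_le hle)
    rwa [card_borel h] at h1
  all_goals obtain ⟨A, B, -, -, hA, hB, hNA, hNB, -⟩ := exists_tori h
  · rw [hA, ← tA] at hNA
    obtain ⟨M, hM, hle⟩ := (eq_top_or_exists_le_coatom _).resolve_left
      (ne_top_of_card h (hNA ▸ lt_of_le_of_lt P.leBo hbig) :
        Subgroup.normalizer (A : Set (Cfsg.Sz F m)) ≠ ⊤)
    have h1 : 4 * tA m ∣ Nat.card M := hNA ▸ Subgroup.card_dvd_of_le hle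
    have h2 : tA m ∣ Nat.card M := (dvd_mul_left _ _).trans h1
    rcases dvd_cases h M hM.1 with e | e | e | ⟨k, hk, hkm, hd, e⟩
    · exact absurd (P.cA.eq_one_of_dvd (h2.trans e)) (by linarith [P.ltA])
    · exact ⟨M, hM, Nat.dvd_antisymm e h1⟩
    · have := Nat.le_of_dvd (by norm_num) (P.cAB.dvd_of_dvd_mul_right (h2.trans e))
      linarith [P.ltA]
    · exact absurd (h2.trans e) (sub_facts hk hkm hd).2.1
  · rw [hB, ← tB] at hNB
    obtain ⟨M, hM, hle⟩ := (eq_top_or_exists_le_coatom _).resolve_left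
      (ne_top_of_card h (hNB ▸ lt_of_le_of_lt ((Nat.mul_le_mul_left 4 P.leB).trans P.leBo) hbig) :
        Subgroup.normalizer (B : Set (Cfsg.Sz F m)) ≠ ⊤)
    have h1 : 4 * tB m ∣ Nat.card M := hNB ▸ Subgroup.card_dvd_of_le hle
    have h2 : tB m ∣ Nat.card M := (dvd_mul_left _ _).trans h1
    rcases dvd_cases h M hM.1 with e | e | e | ⟨k, hk, hkm, hd, e⟩
    · exact absurd (P.cB.eq_one_of_dvd (h2.trans e)) (by linarith [P.ltB])
    · have := Nat.le_of_dvd (by norm_num) (P.cAB.symm.dvd_of_dvd_mul_right (h2.trans e))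
      linarith [P.ltB]
    · exact ⟨M, hM, Nat.dvd_antisymm e h1⟩
    · exact absurd (h2.trans e) (sub_facts hk hkm hd).2.2

end Cfsg.Agent.SzMaxOrd
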